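import Cfsg.Agent.Lib.ConjRankThree.Basic
import Cfsg.Agent.Lib.ClassIndex.Basic
import Cfsg.Agent.Lib.ClassIndex.PxQ
import Cfsg.Agent.Lib.Coprime.Basic
import Cfsg.Agent.EqLemmas

/-
Primes `p` whose Sylow subgroups satisfy `N(P) = C(P)`, and class sizes.

* `Burn p G` : some Sylow `p`-subgroup has normaliser inside its centraliser
* `exists_complement` : the normal complement, with abelian quotient
* `exists_both_dvd` : two primes neither of which is `Burn` divide a common class size
-/

set_option autoImplicit false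
set_option linter.style.haveILetI false
set_option linter.unusedSectionVars false

open Subgroup

namespace Cfsg.Agent.ClassSizeGraph

open Cfsg.Agent.ClassGraph (sz)

variable {G : Type*} [Group G] [Finite G]

local notation "cent" x:max => Subgroup.centralizer ({x} : Set _)

variable (G) in
/-- Some Sylow `p`-subgroup has its normaliser inside its centraliser. -/
def Burn (p : ℕ) : Prop :=
  ∃ P : Sylow p G, normalizer ((P : Subgroup G) : Set G) ≤ centralizer ((P : Subgroup G) : Set G)

theorem eq_one_of_card_coprime {H : Subgroup G} {c : G} (hc : c ∈ H) {k : ℕ} (h : c ^ k = 1)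
    (hco : (Nat.card H).Coprime k) : c = 1 :=
  orderOf_eq_one_iff.1 (Nat.eq_one_of_dvd_coprimes hco (Subgroup.orderOf_dvd_natCard _ hc)
    (orderOf_dvd_of_pow_eq_one h))

/-- A normal complement with abelian quotient, for a `Burn` prime. -/
theorem exists_complement {p : ℕ} [Fact p.Prime] (h : Burn G p) :
    ∃ K : Subgroup G, K.Normal ∧ ¬ p ∣ Nat.card K ∧ (∃ i, K.index = p ^ i) ∧
      _root_.commutator G ≤ K := by
  obtain ⟨P, hP⟩ := h
  refine ⟨(MonoidHom.transferSylow P hP).ker, MonoidHom.normal_ker _,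
    MonoidHom.not_dvd_card_ker_transferSylow P hP, ?_, ?_⟩
  · obtain ⟨i, hi⟩ := IsPGroup.iff_card.1 P.isPGroup'
    exact ⟨i, by rw [(MonoidHom.ker_transferSylow_isComplement' P hP).symm.index_eq_card, hi]⟩
  · rw [commutator_def, commutator_le]
    intro a _ b _
    rw [MonoidHom.mem_ker, map_commutatorElement, commutatorElement_eq_one_iff_mul_comm]
    refine Subtype.ext ?_
    have hb := ((MonoidHom.transferSylow P hP) b).2
    exact (mem_centralizer_iff.1 (hP (le_normalizer ((MonoidHom.transferSylow P hP) a).2)) _ hb).symm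

theorem abelian_of_burn {p : ℕ} [Fact p.Prime] (h : Burn G p) (Q : Sylow p G) :
    ∀ a ∈ (Q : Subgroup G), ∀ b ∈ (Q : Subgroup G), Commute a b := by
  obtain ⟨P, hP⟩ := h
  obtain ⟨g, rfl⟩ := MulAction.exists_smul_eq G P Q
  intro a ha b hb
  rw [Sylow.coe_subgroup_smul] at ha hb
  obtain ⟨a', ha', rfl⟩ := ha
  obtain ⟨b', hb', rfl⟩ := hb
  have : Commute a' b' := (mem_centralizer_iff.1 (hP (le_normalizer ha')) b' hb').symm
  exact this.map (MulDistribMulAction.toMonoidEnd (MulAut G) G (MulAut.conj g))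

/-- An element of class size prime to `p` centralises a Sylow `p`-subgroup. -/
theorem exists_sylow_le_cent {p : ℕ} [Fact p.Prime] {g : G} (h : ¬ p ∣ sz g) :
    ∃ P : Sylow p G, (P : Subgroup G) ≤ cent g := by
  have hp : p.Prime := Fact.out
  obtain ⟨P0⟩ := (inferInstance : Nonempty (Sylow p (cent g : Subgroup G)))
  have hPG : ¬ p ∣ ((P0 : Subgroup (cent g : Subgroup G)).map (cent g).subtype).index := by
    rw [index_map_subtype]
    exact fun hd => (hp.dvd_mul.1 hd).elim P0.not_dvd_index h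
  refine ⟨(P0.isPGroup'.map (cent g).subtype).toSylow hPG, ?_⟩
  rintro _ ⟨z, -, rfl⟩
  exact z.2

theorem half_of_not_burn {p : ℕ} [Fact p.Prime] (h : ¬ Burn G p) :
    2 * {g : G | g ≠ 1 ∧ ¬ p ∣ sz g}.ncard + 2 ≤ Nat.card G := by
  classical
  haveI := Fintype.ofFinite G
  haveI := Fintype.ofFinite (Sylow p G)
  obtain ⟨P⟩ := (inferInstance : Nonempty (Sylow p G))
  set C := centralizer ((P : Subgroup G) : Set G)
  set N := normalizer ((P : Subgroup G) : Set G)
  let U : Sylow p G → Set G := fun Q => (centralizer ((Q : Subgroup G) : Set G) : Set G) \ {1}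
  have hsub : {g : G | g ≠ 1 ∧ ¬ p ∣ sz g} ⊆ ⋃ Q ∈ (Finset.univ : Finset (Sylow p G)), U Q := by
    rintro g ⟨hg1, hgp⟩
    obtain ⟨Q, hQ⟩ := exists_sylow_le_cent hgp
    simp only [Set.mem_iUnion]
    exact ⟨Q, Finset.mem_univ _, mem_centralizer_iff.2 fun y hy => ConjRankThree.mem_cent.1 (hQ hy), hg1⟩
  have hU : ∀ Q : Sylow p G, (U Q).ncard = Nat.card C - 1 := by
    intro Q
    obtain ⟨g, rfl⟩ := MulAction.exists_smul_eq G P Q
    have hmap : centralizer (((g • P : Sylow p G) : Subgroup G) : Set G) =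
        C.map (MulAut.conj g).toMonoidHom := by
      ext x
      simp only [C, mem_centralizer_iff, Subgroup.mem_map, Sylow.coe_subgroup_smul, SetLike.mem_coe]
      constructor
      · intro hx
        refine ⟨g⁻¹ * x * g, fun w hw => ?_, by simp [mul_assoc]⟩
        have e := hx (g * w * g⁻¹) ⟨w, hw, rfl⟩
        calc w * (g⁻¹ * x * g) = g⁻¹ * ((g * w * g⁻¹) * x) * g := by group
          _ = g⁻¹ * (x * (g * w * g⁻¹)) * g := by rw [e]
          _ = _ := by group
      · rintro ⟨y, hy, rfl⟩ w ⟨v, hv, rfl⟩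
        exact (show Commute v y from hy v hv).map (MulAut.conj g).toMonoidHom
    show ((centralizer (((g • P : Sylow p G) : Subgroup G) : Set G) : Set G) \ {1}).ncard = _
    rw [Set.ncard_diff_singleton_of_mem (one_mem (centralizer _)), hmap,
      ← card_map_of_injective (f := (MulAut.conj g).toMonoidHom) (MulAut.conj g).injective (K := C), ← Nat.card_coe_set_eq]
    rfl
  have hle : {g : G | g ≠ 1 ∧ ¬ p ∣ sz g}.ncard ≤ Nat.card (Sylow p G) * (Nat.card C - 1) := by
    refine (Set.ncard_le_ncard hsub (Set.toFinite _)).trans ?_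
    refine (Finset.set_ncard_biUnion_le _ _).trans ?_
    simp [hU, Nat.card_eq_fintype_card]
  have hCN : C ≤ N := centralizer_le_normalizer _
  have h2 : 2 * Nat.card C ≤ Nat.card N := by
    have h1 : C.relIndex N * Nat.card C = Nat.card N := by
      rw [← Nat.card_congr (subgroupOfEquivOfLe hCN).toEquiv]
      exact index_mul_card (C.subgroupOf N)
    have h3 : 2 ≤ C.relIndex N := by
      have hne : C.relIndex N ≠ 1 := fun he => h ⟨P, relIndex_eq_one.1 he⟩
      have hne0 : C.relIndex N ≠ 0 := index_ne_zero_of_finite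
      omega
    calc 2 * Nat.card C ≤ C.relIndex N * Nat.card C := Nat.mul_le_mul_right _ h3
      _ = Nat.card N := h1
  have hs := SmallOrders.card_normalizer_mul_card_sylow P
  have hs1 : 1 ≤ Nat.card (Sylow p G) := Nat.card_pos
  have hkey : Nat.card (Sylow p G) * (2 * Nat.card C) ≤ Nat.card G :=
    calc _ ≤ Nat.card (Sylow p G) * Nat.card N := Nat.mul_le_mul_left _ h2
      _ = Nat.card G := by rw [mul_comm]; exact hs
  have hC : 1 ≤ Nat.card C := Nat.card_pos
  obtain ⟨c, hc⟩ : ∃ c, Nat.card C = c + 1 := ⟨Nat.card C - 1, by omega⟩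
  rw [hc, Nat.add_sub_cancel] at hle
  rw [hc] at hkey
  nlinarith

/-- **Covering lemma.** Two primes, neither of them `Burn`, divide a common class size. -/
theorem exists_both_dvd {p q : ℕ} [Fact p.Prime] [Fact q.Prime] (hp : ¬ Burn G p) (hq : ¬ Burn G q) :
    ∃ g : G, p ∣ sz g ∧ q ∣ sz g := by
  by_contra hcon
  push Not at hcon
  have hsub : ({1}ᶜ : Set G) ⊆ {g : G | g ≠ 1 ∧ ¬ p ∣ sz g} ∪ {g : G | g ≠ 1 ∧ ¬ q ∣ sz g} :=
    fun g hg => (em (p ∣ sz g)).symm.imp (fun h => ⟨hg, h⟩) fun h => ⟨hg, hcon g h⟩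
  have h1 := (Set.ncard_le_ncard hsub (Set.toFinite _)).trans (Set.ncard_union_le _ _)
  rw [Set.ncard_compl, Set.ncard_singleton] at h1
  have := half_of_not_burn hp
  have := half_of_not_burn hq
  omega

/-- A subgroup of index prime to `p` of a group with normal `p`-complement `K`. -/
theorem le_of_coprime_index {K S : Subgroup G} [K.Normal] (h : (Nat.card S).Coprime K.index) : S ≤ K := by
  intro x hx
  refine (QuotientGroup.eq_one_iff x).1 (orderOf_eq_one_iff.1 (Nat.eq_one_of_dvd_coprimes h ?_ ?_))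
  · exact (orderOf_map_dvd (QuotientGroup.mk' K) x).trans (Subgroup.orderOf_dvd_natCard _ hx)
  · rw [index_eq_card]
    exact orderOf_dvd_natCard _

/-- An element commuting with its commutator with `g`, of order prime to that commutator, is fixed. -/
theorem conj_eq_self {π g : G} {M : Subgroup G} (hc : g * π * g⁻¹ * π⁻¹ ∈ M)
    (hcomm : Commute (g * π * g⁻¹ * π⁻¹) π) (hco : (Nat.card M).Coprime (orderOf π)) :
    g * π * g⁻¹ = π := by
  have he : g * π * g⁻¹ = (g * π * g⁻¹ * π⁻¹) * π := by group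
  have hpow : (g * π * g⁻¹) ^ orderOf π = 1 := by
    rw [conj_pow, pow_orderOf_eq_one, mul_one, mul_inv_cancel]
  rw [he, hcomm.mul_pow, pow_orderOf_eq_one, mul_one] at hpow
  exact mul_inv_eq_one.1 (eq_one_of_card_coprime hc hpow hco)

theorem orderOf_dvd_prime_pow {p : ℕ} [Fact p.Prime] {P : Sylow p G} {π : G} (h : π ∈ (P : Subgroup G)) :
    ∃ i, orderOf π = p ^ i := by
  obtain ⟨i, hi⟩ := (IsPGroup.iff_orderOf.1 P.isPGroup') ⟨π, h⟩
  exact ⟨i, by rw [← hi, Subgroup.orderOf_mk]⟩

/-- A Sylow subgroup for a prime dividing some class size is not central. -/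
theorem exists_noncentral {p : ℕ} [Fact p.Prime] {g : G} (hg : p ∣ sz g) (P : Sylow p G) :
    ∃ π ∈ (P : Subgroup G), π ∉ center G := by
  by_contra hcon
  push Not at hcon
  refine P.not_dvd_index (hg.trans (index_dvd_of_le fun x hx => ?_))
  exact ConjRankThree.mem_cent.2 (mem_center_iff.1 (hcon x hx) g).symm

theorem eq_top_of_conj_cover {M : Subgroup G} (h : ∀ g : G, ∃ x : G, x⁻¹ * g * x ∈ M) : M = ⊤ :=
  ClassIndex.eq_top_of_conj_cover h

end Cfsg.Agent.ClassSizeGraph
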