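import Cfsg.Agent.Lib.ClassSizeGraph.Burnside
import Cfsg.Agent.Lib.Solvable.Maximal
import Cfsg.Agent.EqLemmas

/-
The class size prime graph of a nonsolvable group has diameter at most two.

* `Link p q` : a class size divisible by `p q`, or a common neighbour
* `link_of_burn_one` : one of `p`, `q` is `Burn`
* `link_of_burn_both` : both are
-/

set_option autoImplicit false
set_option linter.style.haveILetI false
set_option linter.unusedSectionVars false

open Subgroup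

namespace Cfsg.Agent.ClassSizeGraph

open Cfsg.Agent.ClassGraph (sz)

variable {G : Type*} [Group G] [Finite G]

local notation "cent" x:max => Subgroup.centralizer ({x} : Set _)

variable (G) in
/-- `p` and `q` are at distance at most two. -/
def Link (p q : ℕ) : Prop :=
  (∃ x : G, p * q ∣ sz x) ∨
    ∃ r : ℕ, r.Prime ∧ r ≠ p ∧ r ≠ q ∧ (∃ x : G, p * r ∣ sz x) ∧ (∃ y : G, r * q ∣ sz y)

theorem Link.symm {p q : ℕ} (h : Link G p q) : Link G q p := by
  rcases h with ⟨x, hx⟩ | ⟨r, hr, h1, h2, ⟨x, hx⟩, ⟨y, hy⟩⟩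
  · exact .inl ⟨x, mul_comm p q ▸ hx⟩
  · exact .inr ⟨r, hr, h2, h1, ⟨y, mul_comm r q ▸ hy⟩, ⟨x, mul_comm p r ▸ hx⟩⟩

theorem mul_dvd_sz {p q : ℕ} (hp : p.Prime) (hq : q.Prime) (hpq : p ≠ q) {g : G} (h1 : p ∣ sz g)
    (h2 : q ∣ sz g) : p * q ∣ sz g :=
  ((Nat.coprime_primes hp hq).2 hpq).mul_dvd_of_dvd_of_dvd h1 h2

theorem cent_mul_le {a b : G} (hab : Commute a b) (hco : (orderOf a).Coprime (orderOf b)) :
    cent (a * b) ≤ cent a := by
  obtain ⟨m, hm⟩ := exists_pow_eq_self_of_coprime hco.symm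
  intro y hy
  have h1 : Commute y ((a * b) ^ orderOf b) := (show Commute y (a * b) from mem_centralizer_singleton_iff.1 hy).pow_right _
  rw [hab.mul_pow, pow_orderOf_eq_one, mul_one] at h1
  exact mem_centralizer_singleton_iff.2 (hm ▸ h1.pow_right m).eq

theorem sz_dvd_mul {a b : G} (hab : Commute a b) (hco : (orderOf a).Coprime (orderOf b)) :
    sz a ∣ sz (a * b) ∧ sz b ∣ sz (a * b) :=
  ⟨index_dvd_of_le (cent_mul_le hab hco),
    index_dvd_of_le (hab.eq ▸ cent_mul_le hab.symm hco.symm)⟩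

/-- A nonsolvable group has no abelian normal subgroup with abelian quotient. -/
theorem not_abelian_over (hG : ¬ Group.IsSolvable G) {N : Subgroup G} (hN : _root_.commutator G ≤ N) :
    ¬ N ≤ centralizer (N : Set G) := fun h => hG <| by
  refine (Group.isSolvable_def G).2 ⟨2, ?_⟩
  rw [derivedSeries_succ G 1, derivedSeries_one, eq_bot_iff]
  refine le_trans (commutator_mono hN hN) ?_
  rw [le_bot_iff, commutator_eq_bot_iff_le_centralizer]
  exact h

theorem commutatorElement_mem {N : Subgroup G} (hN : _root_.commutator G ≤ N) (g π : G) :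
    g * π * g⁻¹ * π⁻¹ ∈ N := hN (commutator_mem_commutator (mem_top g) (mem_top π))

theorem link_of_burn_one (hG : ¬ Group.IsSolvable G) {p q : ℕ} [Fact p.Prime] [Fact q.Prime]
    (hpq : p ≠ q) (hbp : Burn G p) (hbq : ¬ Burn G q) {x0 : G} (hx0 : p ∣ sz x0) : Link G p q := by
  have hp : p.Prime := Fact.out
  have hq : q.Prime := Fact.out
  by_contra hlink
  let T : Set (Subgroup G) :=
    {K | K.Normal ∧ _root_.commutator G ≤ K ∧ ∃ s, s.Prime ∧ Burn G s ∧ ¬ s ∣ Nat.card K}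
  let N : Subgroup G := ⨅ K : T, (K : Subgroup G)
  haveI hNn : N.Normal := normal_iInf_normal fun K => K.2.1
  have hGN : _root_.commutator G ≤ N := le_iInf fun K => K.2.2.1
  have hNprime : ∀ r : ℕ, r.Prime → r ∣ Nat.card N → ¬ Burn G r := by
    intro r hr hrN hbr
    haveI := Fact.mk hr
    obtain ⟨K, hKn, hK, -, hGK⟩ := exists_complement hbr
    exact hK (hrN.trans (card_dvd_of_le (iInf_le (fun K : T => (K : Subgroup G)) ⟨K, hKn, hGK, r, hr, hbr, hK⟩)))
  -- class sizes divisible by `p` come from elements centralising `N`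
  have hbig : ∀ g : G, p ∣ sz g → g ∈ centralizer (N : Set G) := by
    intro g hg
    have hone : (cent g).relIndex N = 1 := by
      by_contra hne
      obtain ⟨r, hr, hrd⟩ := Nat.exists_prime_and_dvd hne
      haveI := Fact.mk hr
      have hrb : ¬ Burn G r := hNprime r hr (hrd.trans (index_dvd_card _))
      have hrg : r ∣ sz g := hrd.trans (ClassIndex.relIndex_dvd_index_of_normal_right (cent g) N)
      have hrp : r ≠ p := fun h => hrb (h ▸ hbp)
      by_cases hrq : r = q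
      · exact hlink (.inl ⟨g, mul_dvd_sz hp hq hpq hg (hrq ▸ hrg)⟩)
      · obtain ⟨y, hy1, hy2⟩ := exists_both_dvd hrb hbq
        exact hlink (.inr ⟨r, hr, hrp, hrq, ⟨g, mul_dvd_sz hp hr (Ne.symm hrp) hg hrg⟩,
          ⟨y, mul_dvd_sz hr hq hrq hy1 hy2⟩⟩)
    exact mem_centralizer_iff.2 fun n hn => mem_centralizer_singleton_iff.1 (relIndex_eq_one.1 hone hn)
  let W := centralizer (N : Set G)
  haveI : W.Normal := normal_centralizer
  obtain ⟨P, hPcomm⟩ : ∃ P : Sylow p G, ∀ a ∈ (P : Subgroup G), ∀ b ∈ (P : Subgroup G), Commute a b :=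
    ⟨Classical.arbitrary _, abelian_of_burn hbp _⟩
  have htop : W ⊔ centralizer ((P : Subgroup G) : Set G) = ⊤ := eq_top_of_conj_cover fun g => by
    by_cases hg : p ∣ sz g
    · exact ⟨1, mem_sup_left (by simpa using hbig g hg)⟩
    · obtain ⟨P', hP'⟩ := exists_sylow_le_cent hg
      obtain ⟨x, hx⟩ := MulAction.exists_smul_eq G P P'
      refine ⟨x, mem_sup_right (mem_centralizer_iff.2 fun y hy => ?_)⟩
      have hm : x * y * x⁻¹ ∈ (P' : Subgroup G) := by
        rw [← hx, Sylow.coe_subgroup_smul]; exact ⟨y, hy, rfl⟩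
      have e : (x * y * x⁻¹) * g = g * (x * y * x⁻¹) := mem_centralizer_singleton_iff.1 (hP' hm)
      calc y * (x⁻¹ * g * x) = x⁻¹ * ((x * y * x⁻¹) * g) * x := by group
        _ = x⁻¹ * (g * (x * y * x⁻¹)) * x := by rw [e]
        _ = _ := by group
  obtain ⟨π, hπP, hπZ⟩ := exists_noncentral hx0 P
  have hW : ∀ g : G, g * π * g⁻¹ * π⁻¹ ∈ W := by
    intro g
    obtain ⟨w, hw, l, hl, rfl⟩ := mem_sup_of_normal_left.1 (htop ▸ mem_top g : g ∈ W ⊔ centralizer ((P : Subgroup G) : Set G))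
    have e : l * π * l⁻¹ = π := by
      rw [← mem_centralizer_iff.1 hl π hπP]; group
    have : w * l * π * (w * l)⁻¹ * π⁻¹ = w * (π * w⁻¹ * π⁻¹) := by
      calc w * l * π * (w * l)⁻¹ * π⁻¹ = w * (l * π * l⁻¹) * w⁻¹ * π⁻¹ := by group
        _ = w * π * w⁻¹ * π⁻¹ := by rw [e]
        _ = _ := by group
    rw [this]
    exact mul_mem hw (‹W.Normal›.conj_mem _ (inv_mem hw) π)
  have hout : ∀ n ∈ N, n ∉ W → Commute n π := by
    intro n hn hnW
    obtain ⟨P', hP'⟩ := exists_sylow_le_cent (fun h => hnW (hbig n h) : ¬ p ∣ sz n)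
    obtain ⟨x, hx⟩ := MulAction.exists_smul_eq G P P'
    have hm : x * π * x⁻¹ ∈ (P' : Subgroup G) := by
      rw [← hx, Sylow.coe_subgroup_smul]; exact ⟨π, hπP, rfl⟩
    have h1 : Commute n (x * π * x⁻¹) := (mem_centralizer_singleton_iff.1 (hP' hm)).symm
    have h2 : Commute n (x * π * x⁻¹ * π⁻¹) := mem_centralizer_iff.1 (hW x) n hn
    have := h2.inv_right.mul_right h1
    simpa [mul_assoc] using this
  obtain ⟨n0, hn0, hn0W⟩ := SetLike.not_le_iff_exists.1 (not_abelian_over hG hGN)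
  have hall : ∀ n ∈ N, Commute n π := by
    intro n hn
    by_cases hnW : n ∈ W
    · have h1 := hout (n * n0) (mul_mem hn hn0) fun h => hn0W ((mul_mem_cancel_left hnW).1 h)
      have := h1.mul_left (hout n0 hn0 hn0W).inv_left
      simpa using this
    · exact hout n hn hnW
  refine hπZ (mem_center_iff.2 fun g => ?_)
  have hco : (Nat.card N).Coprime (orderOf π) := by
    obtain ⟨i, hi⟩ := orderOf_dvd_prime_pow hπP
    rw [hi]
    exact ((hp.coprime_iff_not_dvd.2 fun h => hNprime p hp h hbp).symm).pow_right i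
  exact mul_inv_eq_iff_eq_mul.1 (conj_eq_self (commutatorElement_mem hGN g π) (hall _ (commutatorElement_mem hGN g π)) hco)

/-- A `p`-element moved by everything in sight: there is an element of `M` none of whose
conjugates under `H` commutes with `π`. -/
theorem exists_moved {π : G} (hπ : π ∉ center G) {M H : Subgroup G} [M.Normal]
    (hc : ∀ g : G, g * π * g⁻¹ * π⁻¹ ∈ M) (hco : (Nat.card M).Coprime (orderOf π)) :
    ∃ x ∈ M, ∀ h ∈ H, ¬ Commute (h⁻¹ * x * h) π := by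
  by_contra hcon
  push Not at hcon
  have key : ∀ x : M, ∃ m : M, m⁻¹ * x * m ∈ (cent π).subgroupOf M := by
    rintro ⟨x, hx⟩
    obtain ⟨h, -, hh⟩ := hcon x hx
    have hle : zpowers (h * π * h⁻¹) ≤ M ⊔ zpowers π := by
      rw [zpowers_le, show h * π * h⁻¹ = (h * π * h⁻¹ * π⁻¹) * π by group]
      exact mul_mem_sup (hc h) (mem_zpowers π)
    have hcard : Nat.card (zpowers (h * π * h⁻¹)) = Nat.card (zpowers π) := by
      rw [Nat.card_zpowers, Nat.card_zpowers]
      exact ((MulAut.conj h).orderOf_eq π)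
    obtain ⟨m, hm, hmeq⟩ := Coprime.exists_conj_eq_of_le_sup
      (show zpowers π ≤ normalizer (M : Set G) by rw [normalizer_eq_top]; exact le_top)
      (by rw [Nat.card_zpowers]; exact hco.symm) (Or.inl inferInstance) hle hcard
    have hmem : m * π * m⁻¹ ∈ zpowers (h * π * h⁻¹) := by
      rw [← hmeq]; exact ⟨π, mem_zpowers π, rfl⟩
    obtain ⟨i, hi⟩ := hmem
    have hxc : Commute x (h * π * h⁻¹) := by
      have e : (h⁻¹ * x * h) * π = π * (h⁻¹ * x * h) := hh
      calc x * (h * π * h⁻¹) = h * ((h⁻¹ * x * h) * π) * h⁻¹ := by group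
        _ = h * (π * (h⁻¹ * x * h)) * h⁻¹ := by rw [e]
        _ = _ := by group
    have e : x * (m * π * m⁻¹) = (m * π * m⁻¹) * x := hi ▸ (hxc.zpow_right i).eq
    refine ⟨⟨m, hm⟩, mem_centralizer_singleton_iff.2 ?_⟩
    show (m⁻¹ * x * m) * π = π * (m⁻¹ * x * m)
    calc (m⁻¹ * x * m) * π = m⁻¹ * (x * (m * π * m⁻¹)) * m := by group
      _ = m⁻¹ * ((m * π * m⁻¹) * x) * m := by rw [e]
      _ = _ := by group
  have htop := eq_top_of_conj_cover key
  have hall : ∀ x ∈ M, Commute x π := fun x hx =>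
    mem_centralizer_singleton_iff.1 (subgroupOf_eq_top.1 htop hx)
  exact hπ (mem_center_iff.2 fun g =>
    mul_inv_eq_iff_eq_mul.1 (conj_eq_self (hc g) (hall _ (hc g)) hco))

/-- The normal subgroup generated by the commutators with `π`. -/
theorem exists_commutators (π : G) {H : Subgroup G} (hH : _root_.commutator G ≤ H) :
    ∃ M : Subgroup G, M.Normal ∧ M ≤ H ∧ (∀ g : G, g * π * g⁻¹ * π⁻¹ ∈ M) ∧
      ∀ X : Subgroup G, (∀ g : G, g * π * g⁻¹ * π⁻¹ ∈ X) → M ≤ X := by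
  refine ⟨closure (Set.range fun g : G => g * π * g⁻¹ * π⁻¹), ⟨fun n hn y => ?_⟩, ?_,
    fun g => subset_closure ⟨g, rfl⟩, fun X hX => (closure_le _).2 (by rintro _ ⟨g, rfl⟩; exact hX g)⟩
  · induction hn using closure_induction with
    | mem v hv =>
      obtain ⟨g, rfl⟩ := hv
      have : y * (g * π * g⁻¹ * π⁻¹) * y⁻¹ =
          ((y * g) * π * (y * g)⁻¹ * π⁻¹) * (y * π * y⁻¹ * π⁻¹)⁻¹ := by group
      rw [this]
      exact mul_mem (subset_closure ⟨y * g, rfl⟩) (inv_mem (subset_closure ⟨y, rfl⟩))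
    | one => simp
    | mul v w _ _ hv hw => simpa [mul_assoc] using mul_mem hv hw
    | inv v _ hv => simpa [mul_assoc] using inv_mem hv
  · rw [closure_le]
    rintro _ ⟨g, rfl⟩
    exact commutatorElement_mem hH g π

theorem exists_sylow_le {p : ℕ} [Fact p.Prime] {H : Subgroup G} (hH : ¬ p ∣ H.index) :
    ∃ P : Sylow p G, (P : Subgroup G) ≤ H := by
  have hp : p.Prime := Fact.out
  obtain ⟨P0⟩ := (inferInstance : Nonempty (Sylow p H))
  have hPG : ¬ p ∣ ((P0 : Subgroup H).map H.subtype).index := by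
    rw [index_map_subtype]
    exact fun hd => (hp.dvd_mul.1 hd).elim P0.not_dvd_index hH
  refine ⟨(P0.isPGroup'.map H.subtype).toSylow hPG, ?_⟩
  rintro _ ⟨z, -, rfl⟩
  exact z.2

theorem link_of_burn_both {p q : ℕ} [Fact p.Prime] [Fact q.Prime]
    (hpq : p ≠ q) (hbp : Burn G p) (hbq : Burn G q) {x0 y0 : G} (hx0 : p ∣ sz x0) (hy0 : q ∣ sz y0) :
    Link G p q := by
  have hp : p.Prime := Fact.out
  have hq : q.Prime := Fact.out
  have hcpq : p.Coprime q := (Nat.coprime_primes hp hq).2 hpq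
  by_contra hlink
  have hno : ∀ g : G, p ∣ sz g → ¬ q ∣ sz g := fun g h1 h2 => hlink (.inl ⟨g, mul_dvd_sz hp hq hpq h1 h2⟩)
  obtain ⟨Kp, hKpn, hKp, ⟨i, hKpi⟩, hGKp⟩ := exists_complement hbp
  obtain ⟨Kq, hKqn, hKq, ⟨j, hKqj⟩, hGKq⟩ := exists_complement hbq
  let H := Kp ⊓ Kq
  haveI : H.Normal := inferInstance
  have hGH : _root_.commutator G ≤ H := le_inf hGKp hGKq
  have hHp : (Nat.card H).Coprime p :=
    (hp.coprime_iff_not_dvd.2 fun h => hKp (h.trans (card_dvd_of_le inf_le_left))).symm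
  have hHq : (Nat.card H).Coprime q :=
    (hq.coprime_iff_not_dvd.2 fun h => hKq (h.trans (card_dvd_of_le inf_le_right))).symm
  -- commuting Sylow subgroups
  obtain ⟨Q, hQ⟩ := id hbq
  have hQK : (Q : Subgroup G) ≤ Kp := le_of_coprime_index (by
    obtain ⟨a, ha⟩ := IsPGroup.iff_card.1 Q.isPGroup'
    rw [ha, hKpi]; exact (hcpq.symm.pow a i))
  have hNQ : ¬ p ∣ (normalizer ((Q : Subgroup G) : Set G)).index := by
    have hd : (normalizer ((Q : Subgroup G) : Set G)).index ∣ Nat.card Kp := by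
      have e := Solvable.relIndex_sup_of_normal (normalizer ((Q : Subgroup G) : Set G)) Kp
      rw [show normalizer ((Q : Subgroup G) : Set G) ⊔ Kp = ⊤ from Sylow.normalizer_sup_eq_top' Q hQK,
        relIndex_top_right] at e
      exact e ▸ index_dvd_card _
    exact fun h => hKp (h.trans hd)
  obtain ⟨P, hPN⟩ := exists_sylow_le hNQ
  have hPQ : ∀ a ∈ (P : Subgroup G), ∀ b ∈ (Q : Subgroup G), Commute a b := fun a ha b hb =>
    (mem_centralizer_iff.1 (hQ (hPN ha)) b hb).symm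
  obtain ⟨π, hπP, hπZ⟩ := exists_noncentral hx0 P
  obtain ⟨ψ, hψQ, hψZ⟩ := exists_noncentral hy0 Q
  have hPπ : (P : Subgroup G) ≤ cent π := fun a ha =>
    mem_centralizer_singleton_iff.2 (abelian_of_burn hbp P a ha π hπP).eq
  have hQπ : (Q : Subgroup G) ≤ cent π := fun b hb =>
    mem_centralizer_singleton_iff.2 (hPQ π hπP b hb).symm.eq
  have hPψ : (P : Subgroup G) ≤ cent ψ := fun a ha =>
    mem_centralizer_singleton_iff.2 (hPQ a ha ψ hψQ).eq
  have hQψ : (Q : Subgroup G) ≤ cent ψ := fun b hb =>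
    mem_centralizer_singleton_iff.2 (abelian_of_burn hbq Q b hb ψ hψQ).eq
  have htop : H ⊔ ((P : Subgroup G) ⊔ Q) = ⊤ := by
    rw [← index_eq_one]
    by_contra hne
    obtain ⟨s, hs, hsd⟩ := Nat.exists_prime_and_dvd hne
    have h1 : H.index ∣ p ^ i * q ^ j := by
      rw [← hKpi, ← hKqj, ← relIndex_mul_index (inf_le_left : H ≤ Kp), inf_relIndex_left, mul_comm]
      exact Nat.mul_dvd_mul_left _ (relIndex_dvd_index_of_normal Kq Kp)
    have h2 := hsd.trans ((index_dvd_of_le le_sup_left).trans h1)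
    rcases hs.dvd_mul.1 h2 with h | h
    · have := (Nat.prime_dvd_prime_iff_eq hs hp).1 (hs.dvd_of_dvd_pow h)
      exact P.not_dvd_index ((this ▸ hsd).trans (index_dvd_of_le (le_sup_left.trans le_sup_right)))
    · have := (Nat.prime_dvd_prime_iff_eq hs hq).1 (hs.dvd_of_dvd_pow h)
      exact Q.not_dvd_index ((this ▸ hsd).trans (index_dvd_of_le (le_sup_right.trans le_sup_right)))
  have hdec : ∀ g : G, ∃ h ∈ H, g * π * g⁻¹ = h * π * h⁻¹ ∧ g * ψ * g⁻¹ = h * ψ * h⁻¹ := by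
    intro g
    obtain ⟨h, hh, a, ha, rfl⟩ := mem_sup_of_normal_left.1 (htop ▸ mem_top g : g ∈ H ⊔ ((P : Subgroup G) ⊔ Q))
    have e1 : Commute a π := mem_centralizer_singleton_iff.1 (sup_le hPπ hQπ ha)
    have e2 : Commute a ψ := mem_centralizer_singleton_iff.1 (sup_le hPψ hQψ ha)
    refine ⟨h, hh, ?_, ?_⟩
    · calc h * a * π * (h * a)⁻¹ = h * (a * π * a⁻¹) * h⁻¹ := by group
        _ = _ := by rw [e1.mul_inv_cancel]
    · calc h * a * ψ * (h * a)⁻¹ = h * (a * ψ * a⁻¹) * h⁻¹ := by group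
        _ = _ := by rw [e2.mul_inv_cancel]
  have conjC : ∀ {h n v : G}, Commute n (h * v * h⁻¹) → Commute (h⁻¹ * n * h) v := by
    intro h n v e
    calc h⁻¹ * n * h * v = h⁻¹ * (n * (h * v * h⁻¹)) * h := by group
      _ = h⁻¹ * ((h * v * h⁻¹) * n) * h := by rw [e.eq]
      _ = _ := by group
  have keyp : ∀ n : G, ¬ p ∣ sz n → ∃ h ∈ H, Commute (h⁻¹ * n * h) π := by
    intro n hn
    obtain ⟨P', hP'⟩ := exists_sylow_le_cent hn
    obtain ⟨x, hx⟩ := MulAction.exists_smul_eq G P P'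
    obtain ⟨h, hh, e, -⟩ := hdec x
    have hm : x * π * x⁻¹ ∈ (P' : Subgroup G) := by
      rw [← hx, Sylow.coe_subgroup_smul]; exact ⟨π, hπP, rfl⟩
    exact ⟨h, hh, conjC (e ▸ (mem_centralizer_singleton_iff.1 (hP' hm)).symm)⟩
  have keyq : ∀ n : G, ¬ q ∣ sz n → ∃ h ∈ H, Commute (h⁻¹ * n * h) ψ := by
    intro n hn
    obtain ⟨Q', hQ'⟩ := exists_sylow_le_cent hn
    obtain ⟨x, hx⟩ := MulAction.exists_smul_eq G Q Q'
    obtain ⟨h, hh, -, e⟩ := hdec x
    have hm : x * ψ * x⁻¹ ∈ (Q' : Subgroup G) := by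
      rw [← hx, Sylow.coe_subgroup_smul]; exact ⟨ψ, hψQ, rfl⟩
    exact ⟨h, hh, conjC (e ▸ (mem_centralizer_singleton_iff.1 (hQ' hm)).symm)⟩
  obtain ⟨a, hπo⟩ := orderOf_dvd_prime_pow hπP
  obtain ⟨b, hψo⟩ := orderOf_dvd_prime_pow hψQ
  have hHπ : (Nat.card H).Coprime (orderOf π) := hπo ▸ hHp.pow_right a
  have hHψ : (Nat.card H).Coprime (orderOf ψ) := hψo ▸ hHq.pow_right b
  by_cases hcop : (sz π).Coprime (sz ψ)
  · obtain ⟨M1, hM1n, hM1H, hM1c, hM1u⟩ := exists_commutators π hGH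
    obtain ⟨M2, hM2n, hM2H, hM2c, hM2u⟩ := exists_commutators ψ hGH
    have hM1 : M1 ≤ cent ψ := hM1u _ fun g => by
      obtain ⟨d, hd, c, hc, rfl⟩ := Solvable.exists_mul_of_coprime_index (H := cent π) (K := cent ψ) hcop g
      have e : c * π * c⁻¹ = π := (show Commute c π from mem_centralizer_singleton_iff.1 hc).mul_inv_cancel
      rw [show d * c * π * (d * c)⁻¹ = d * (c * π * c⁻¹) * d⁻¹ by group, e]
      have hπψ : π ∈ cent ψ := hPψ hπP
      exact mul_mem (mul_mem (mul_mem hd hπψ) (inv_mem hd)) (inv_mem hπψ)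
    have hM2 : M2 ≤ cent π := hM2u _ fun g => by
      obtain ⟨d, hd, c, hc, rfl⟩ := Solvable.exists_mul_of_coprime_index (H := cent ψ) (K := cent π) hcop.symm g
      have e : c * ψ * c⁻¹ = ψ := (show Commute c ψ from mem_centralizer_singleton_iff.1 hc).mul_inv_cancel
      rw [show d * c * ψ * (d * c)⁻¹ = d * (c * ψ * c⁻¹) * d⁻¹ by group, e]
      have hψπ : ψ ∈ cent π := hQπ hψQ
      exact mul_mem (mul_mem (mul_mem hd hψπ) (inv_mem hd)) (inv_mem hψπ)
    obtain ⟨x, hx, hxm⟩ := exists_moved (H := H) hπZ hM1c (hHπ.coprime_dvd_left (card_dvd_of_le hM1H))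
    obtain ⟨y, hy, hym⟩ := exists_moved (H := H) hψZ hM2c (hHψ.coprime_dvd_left (card_dvd_of_le hM2H))
    have hpn : p ∣ sz (x * y) := by
      by_contra hn
      obtain ⟨h, hh, e⟩ := keyp _ hn
      have hy' : Commute (h⁻¹ * y * h) π := mem_centralizer_singleton_iff.1
        (hM2 (by simpa using hM2n.conj_mem y hy h⁻¹))
      exact hxm h hh (by simpa [mul_assoc] using e.mul_left hy'.inv_left)
    have hqn : q ∣ sz (x * y) := by
      by_contra hn
      obtain ⟨h, hh, e⟩ := keyq _ hn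
      have hx' : Commute (h⁻¹ * x * h) ψ := mem_centralizer_singleton_iff.1
        (hM1 (by simpa using hM1n.conj_mem x hx h⁻¹))
      exact hym h hh (by simpa [mul_assoc] using hx'.inv_left.mul_left e)
    exact hno _ hpn hqn
  · obtain ⟨r, hr, hrπ, hrψ⟩ := Nat.Prime.not_coprime_iff_dvd.1 hcop
    have hrp : r ≠ p := fun h => P.not_dvd_index ((show p ∣ sz π from h ▸ hrπ).trans (index_dvd_of_le hPπ))
    have hrq : r ≠ q := fun h => Q.not_dvd_index ((show q ∣ sz π from h ▸ hrπ).trans (index_dvd_of_le hQπ))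
    obtain ⟨k, hk, hkm⟩ := exists_moved (H := H) (M := H) hπZ (fun g => commutatorElement_mem hGH g π) hHπ
    obtain ⟨l, hl, hlm⟩ := exists_moved (H := H) (M := H) hψZ (fun g => commutatorElement_mem hGH g ψ) hHψ
    have hpk : p ∣ sz k := by
      by_contra hn
      obtain ⟨h, hh, e⟩ := keyp k hn
      exact hkm h hh e
    have hql : q ∣ sz l := by
      by_contra hn
      obtain ⟨h, hh, e⟩ := keyq l hn
      exact hlm h hh e
    obtain ⟨h1, hh1, e1⟩ := keyq k (hno k hpk)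
    obtain ⟨h2, hh2, e2⟩ := keyp l fun h => hno l h hql
    have hco1 : (orderOf (h1⁻¹ * k * h1)).Coprime (orderOf ψ) :=
      hHψ.coprime_dvd_left (Subgroup.orderOf_dvd_natCard _ (mul_mem (mul_mem (inv_mem hh1) hk) hh1))
    have hco2 : (orderOf (h2⁻¹ * l * h2)).Coprime (orderOf π) :=
      hHπ.coprime_dvd_left (Subgroup.orderOf_dvd_natCard _ (mul_mem (mul_mem (inv_mem hh2) hl) hh2))
    have s1 : sz (h1⁻¹ * k * h1) = sz k := by simpa using ClassGraph.sz_conj h1⁻¹ k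
    have s2 : sz (h2⁻¹ * l * h2) = sz l := by simpa using ClassGraph.sz_conj h2⁻¹ l
    refine hlink (.inr ⟨r, hr, hrp, hrq, ⟨h1⁻¹ * k * h1 * ψ, ?_⟩, ⟨h2⁻¹ * l * h2 * π, ?_⟩⟩)
    · exact mul_dvd_sz hp hr (Ne.symm hrp) ((s1 ▸ hpk).trans (sz_dvd_mul e1 hco1).1)
        (hrψ.trans (sz_dvd_mul e1 hco1).2)
    · exact mul_dvd_sz hr hq hrq (hrπ.trans (sz_dvd_mul e2 hco2).2)
        ((s2 ▸ hql).trans (sz_dvd_mul e2 hco2).1)

theorem link (hG : ¬ Group.IsSolvable G) {p q : ℕ} (hp : p.Prime) (hq : q.Prime) (hpq : p ≠ q)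
    (hp' : ∃ x : G, p ∣ sz x) (hq' : ∃ x : G, q ∣ sz x) : Link G p q := by
  haveI := Fact.mk hp
  haveI := Fact.mk hq
  obtain ⟨x0, hx0⟩ := hp'
  obtain ⟨y0, hy0⟩ := hq'
  by_cases hbp : Burn G p <;> by_cases hbq : Burn G q
  · exact link_of_burn_both hpq hbp hbq hx0 hy0
  · exact link_of_burn_one hG hpq hbp hbq hx0
  · exact (link_of_burn_one hG hpq.symm hbq hbp hy0).symm
  · obtain ⟨g, h1, h2⟩ := exists_both_dvd hbp hbq
    exact .inl ⟨g, mul_dvd_sz hp hq hpq h1 h2⟩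

end Cfsg.Agent.ClassSizeGraph
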